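import Cfsg.Agent.H48.J4U.Equiv
import Cfsg.Agent.H56.J4.Trio

/-!
The involution of the base trio satisfies the centralising hypothesis of the double coset engine.
-/

set_option autoImplicit false

namespace Cfsg.Agent.H48.J4U

open Cfsg Cfsg.Agent.Golay
open scoped Pointwise

universe u

theorem wT_inv : H56.J4.invOK H56.J4.Up.wT H56.J4.Up.wTi = true := by decide +kernel

theorem gX_eq : H56.J4.gX = xσ := by
  refine Subtype.ext ?_
  show H56.J4.gv H56.J4.Up.xT = mkPerm xT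
  rw [show H56.J4.gv H56.J4.Up.xT = (mkPerm H56.J4.Up.xT)⁻¹ from rfl,
    show mkPerm xT = mkPerm H56.J4.Up.xTi from rfl]
  have h := (H56.J4.invOK_spec H56.J4.inv_xT).2.2
  rw [H56.J4.gv, H56.J4.gv, inv_inj] at h
  exact h.symm

theorem gW_eq : H56.J4.gW = wσ := by
  refine Subtype.ext ?_
  show H56.J4.gv H56.J4.Up.wT = mkPerm wT
  rw [show H56.J4.gv H56.J4.Up.wT = (mkPerm H56.J4.Up.wT)⁻¹ from rfl,
    show mkPerm wT = mkPerm H56.J4.Up.wTi from rfl]
  have h := (H56.J4.invOK_spec wT_inv).2.2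
  rw [H56.J4.gv, H56.J4.gv, inv_inj] at h
  exact h.symm

theorem trioStab_eq : MulAction.stabilizer Cfsg.M24 H56.J4.S0 = trioStab := by
  rw [H56.J4.stab_eq, H56.J4.Lsub, gX_eq, gW_eq, trioStab]

variable {G : Type u} [Group G] {φ : ↥Cfsg.M24 →* G} {t : G}

theorem cen_base (ht : t * t = 1) (hc : ∀ σ ∈ trioStab, Commute (φ σ) t) :
    H56.J4.Cen φ t H56.J4.S0 :=
  H56.J4.cen_of_comm φ t ht
    (gX_eq ▸ (hc _ (Subgroup.subset_closure (Set.mem_insert _ _))).eq)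
    (gW_eq ▸ (hc _ (Subgroup.subset_closure (Set.mem_insert_of_mem _ rfl))).eq)

theorem tau_eq_tAt (hC : H56.J4.Cen φ t H56.J4.S0) (σ : ↥Cfsg.M24) :
    H56.J4.tau φ t H56.J4.S0 ((σ : Equiv.Perm GolayPt) • H56.J4.S0) = tAt φ t σ :=
  H56.J4.tau_base hC σ

end Cfsg.Agent.H48.J4U
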