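import Cfsg.Agent.H48.J4U.IsT
import Cfsg.Agent.H43.J4.Main
import Cfsg.Agent.H43.J4.Bridge
import Cfsg.Agent.H85.JFour.AutM22.Main

/-!
The involution in the centre of the centraliser of an element of order three, in a group of Janko-four type.
-/

set_option autoImplicit false

namespace Cfsg.Agent.H48.J4U

open Subgroup H43.JFour

universe u

variable {G : Type u} [Group G]

variable [Finite G] [IsSimpleGroup G]

/-- Existence and uniqueness of the involution, in a context. -/
theorem exists_isT_ok {A : Type*} [Group A] {M : Subgroup A} (hG : ¬ IsMulCommutative G) {c : Ctx G A}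
    (hc : c.Ok) (hA : AutData A M) {d : G}
    (hd : orderOf d = 3) : ∃ t, IsT d t ∧ IsConj c.z t ∧ ∀ t', IsT d t' → t' = t := by
  obtain ⟨p, hp, hp1⟩ := hc.exists_p
  have : Fact (Nat.Prime 3) := ⟨Nat.prime_three⟩
  have hop : orderOf p = 3 := orderOf_eq_prime (by rw [pow_three']; exact hc.P_pow hp) hp1
  obtain ⟨g, hg⟩ := isConj_iff.1 (hc.one_class hA hG hop hd)
  have hCp : ∀ x : G, Commute x p → x ∈ c.C := fun x hx => by
    rw [← hc.cent_P hA hG]
    refine mem_centralizer_iff.2 fun q hq => ?_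
    rcases hc.P_cases hp hp1 hq with e | e | e <;> rw [e]
    · simp
    · exact hx.symm.eq
    · exact (hx.symm.mul_left hx.symm).eq
  have hzT : IsT p c.z := ⟨hc.ord, fun x hx => (c.mem_H.1 (hCp x hx).1).symm⟩
  refine ⟨g * c.z * g⁻¹, hg ▸ hzT.conj g, isConj_iff.2 ⟨g, rfl⟩, fun t' ht' => ?_⟩
  have hs : IsT p (g⁻¹ * t' * g) := by
    have h := ht'.conj g⁻¹
    rw [inv_inv, ← hg, show g⁻¹ * (g * p * g⁻¹) * g = p by group] at h
    exact h
  set s := g⁻¹ * t' * g with hsd
  suffices s = c.z by rw [← this, hsd]; group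
  have hsC : s ∈ c.C := hCp _ hs.commute.symm
  obtain ⟨q, hq, e | e⟩ := hc.center_mem hA hsC fun b hb => (hs.2 b
    (Commute.symm (hc.P_central hp hb))).eq
  · exfalso
    apply hs.ne_one
    have h3 := hc.P_pow hq
    rw [← e, hs.sq, one_mul] at h3
    exact h3
  · have hzq : Commute c.z q := c.mem_H.1 (hc.P_le hq)
    have h2 : q * q = 1 := by
      calc q * q = c.z * c.z * (q * q) := by rw [hc.z_sq, one_mul]
        _ = c.z * (c.z * q) * q := by group
        _ = c.z * (q * c.z) * q := by rw [hzq.eq]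
        _ = c.z * q * (c.z * q) := by group
        _ = 1 := by rw [← e, hs.sq]
    have h3 := hc.P_pow hq
    rw [h2, one_mul] at h3
    rw [e, h3, mul_one]

/-- Existence and uniqueness of the involution; it is conjugate to `z`. -/
theorem exists_isT (hG : ¬ IsMulCommutative G) {z : G} (hJ : Cfsg.IsOfJankoFourTypeAt z) {d : G}
    (hd : orderOf d = 3) : ∃ t, IsT d t ∧ IsConj z t ∧ ∀ t', IsT d t' → t' = t := by
  obtain ⟨P, hP⟩ := hJ
  obtain ⟨c, rfl, -, -, hc⟩ := exists_ctx hP
  exact exists_isT_ok hG hc H85.AutM22.autData hd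

end Cfsg.Agent.H48.J4U
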