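import Cfsg.Agent.H48.J4U.Data

/-!
Kernel checks for the tables of the base trio.
-/

set_option autoImplicit false
set_option maxRecDepth 100000

namespace Cfsg.Agent.H48.J4U

open Cfsg.Agent.Golay H38.JFour

/-- Memberships and relations of the generators. -/
lemma gen_check : (inM24 xT && inM24 wT && gList.all inM24 && uList.all (fun q => inM24 q.2) &&
    tblEq (tblMul (tblMul dT dT) dT) idTbl && !tblEq dT idTbl &&
    tblEq (tblMul sT sT) idTbl && tblEq (tblMul (tblMul sT dT) sT) (tblMul dT dT) &&
    tblEq (wordT xWord) xT && tblEq (wordT wWd) wT && inM24 sT && inM24 eT) = true := by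
  decide +kernel

/-- The fixed-point-free involutions. -/
lemma u_check : (uList.all fun q => isSext q.1 && zList.contains q.1 &&
    tblEq (tblMul q.2 dT) (tblMul dT q.2) && tblEq (tblMul q.2 q.2) idTbl &&
    (List.range 24).all fun i => !(app q.2 i == i)) = true := by
  decide +kernel

/-- Every syndrome outside the seven is moved to a duad. -/
lemma move_check : (moveWords.map (fun w => linGens (wordT w)) == moveGens &&
    (List.range (2 ^ 12)).all (fun s => !ev s || s == 0 || zList.contains s || isDuad s ||
      moveGens.any fun gs => isDuad (s ^^^ lin gs s))) = true := by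
  decide +kernel

/-- The stabiliser fixes no non-zero syndrome. -/
lemma fix_check : ([xT, wT].map linGens == fixGens &&
    (List.range (2 ^ 12)).all (fun s => !ev s || s == 0 || fixGens.any fun gs => !(lin gs s == s))) =
    true := by
  decide +kernel

/-- The stabiliser is transitive and the stabiliser of a point in it fixes that point alone. -/
lemma point_check : (stabWords.all (fun w => app (wordT w) 0 == 0) &&
    (List.range 24).all (fun i => i == 0 || stabWords.any fun w => !(app (wordT w) i == i)) &&
    (List.range 24).all (fun k => app (wordT (pointWords.getD k [])) 0 == k) &&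
    stabWords.all (fun w => w.all (· < 5)) && pointWords.all (fun w => w.all (· < 5)) &&
    moveWords.all (fun w => w.all (· < 5)) && xWord.all (· < 5) && wWd.all (· < 5)) = true := by
  decide +kernel

end Cfsg.Agent.H48.J4U
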