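import Cfsg.Agent.H38.JFour.Lin

/-!
Tables for the base trio: an element of order three moving its octads, an involution inverting it, involutions
without fixed points in the seven sextet groups, and words in these for the generators of the trio stabiliser.
-/

set_option autoImplicit false

namespace Cfsg.Agent.H48.J4U

open Cfsg.Agent.Golay H38.JFour

/-- The seven sextets of the base trio. -/
def zList : List ℕ := [698, 1463, 1805, 2390, 3052, 3297, 3675]

/-- The element of order three. -/
def dT : ℕ := 216037540137512414457370886631591394

/-- The involution inverting it. -/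
def sT : ℕ := 216033315535346378741682966364228640

/-- An involution of the sextet group of `698` with eight fixed points. -/
def eT : ℕ := 944569772236290697579231267829188640

/-- A sextet with a fixed-point-free involution of its group commuting with `dT`. -/
def uList : List (ℕ × ℕ) := [
  (698, 303934666482472510870088253164633089),
  (1463, 420871937280519645355379355080342529),
  (1805, 175667473023329699678854777731955713),
  (2390, 943799486375515889087421650358949163),
  (3052, 944002183535324198637054212187630121),
  (3297, 310668426033999560676041589441171921),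
  (3675, 296592434314272111916471104909355369)]

/-- The five generators. -/
def gList : List ℕ := [dT, sT, 310668426033999560676041589441171921, eT, 944002183535324198637054212187630121]

/-- The product of a word in the generators. -/
def wordT (w : List ℕ) : ℕ := w.foldl (fun a i => tblMul a (gList.getD i idTbl)) idTbl

/-- The table of `x`. -/
def xT : ℕ := 397264176401722763977161013310408356

/-- The table of the second generator of the stabiliser. -/
def wT : ℕ := 132730278912762259812739884841582603

/-- A word for `x`. -/
def xWord : List ℕ := [0, 1, 2, 3, 2, 3, 2]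

/-- A word for the second generator. -/
def wWd : List ℕ := [3, 1, 3, 2, 4]

/-- Words moving each syndrome outside the seven to a duad. -/
def moveWords : List (List ℕ) := [
  [0, 3, 1, 3, 4, 3, 1, 4, 3, 0, 0],
  [1],
  [1, 2, 3, 2, 3, 2, 3, 0],
  [3],
  [3, 0, 4, 3, 0, 3, 0, 2, 4, 3],
  [1, 2, 3, 0, 4, 3, 1, 0, 4, 2, 3],
  [1, 4, 3, 1, 4, 2, 4, 3, 4, 2]]

/-- Words fixing only the position `0`. -/
def stabWords : List (List ℕ) := [[3, 1, 4, 2, 3, 4, 3, 4]]

/-- Words moving the position `0` to each position. -/
def pointWords : List (List ℕ) := [[], [4, 2], [0], [0, 0], [2, 0], [4, 2, 3, 0, 0], [2, 3, 0, 0], [3, 4, 0], [4, 0, 0], [4], [4, 0], [2, 4], [3, 0, 0], [3, 2, 0, 0], [2, 4, 2], [4, 2, 0], [2, 0, 0], [2], [3, 4], [0, 3, 4, 0], [2, 3, 4], [2, 4, 0], [2, 4, 2, 0], [2, 3, 4, 0]]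

/-- Images of the basis under the moving words. -/
def moveGens : List (List ℕ) := [
  [2744, 1489, 3688, 272, 3843, 2956, 159, 1032, 520, 640, 2176],
  [3, 10, 12, 3863, 870, 1594, 2453, 2010, 1536, 768, 2304],
  [1581, 2362, 2749, 2729, 509, 1005, 640, 1635, 1699, 1088, 159],
  [3, 6, 1179, 1167, 970, 730, 1280, 1088, 429, 365, 2176],
  [2747, 1919, 3462, 3880, 3063, 1175, 1032, 2835, 2215, 3009, 3188],
  [1460, 1536, 159, 1179, 990, 3273, 1372, 2575, 2809, 1489, 3945],
  [2541, 3480, 3197, 24, 48, 96, 192, 1055, 3622, 3769, 1025]]

/-- Images of the basis under the two generators of the stabiliser. -/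
def fixGens : List (List ℕ) := [[3960, 1489, 3622, 1182, 987, 730, 2019, 1699, 3125, 3009, 2674], [2049, 3858, 3843, 970, 990, 2635, 2671, 3912, 1489, 903, 3722]]

end Cfsg.Agent.H48.J4U
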