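import Cfsg.Agent.H48.J4U.Invol

/-!
The involution of a trio moved by an element of the complement: transfer of the properties of the base involution.
-/

set_option autoImplicit false

namespace Cfsg.Agent.H48.J4U

open Subgroup Cfsg Cfsg.Agent.Golay H38.JFour

universe u

variable {G : Type u} [Group G]

/-- The involution of the trio which is the image of the base one under `σ`. -/
def tAt (φ : ↥Cfsg.M24 →* G) (t : G) (σ : ↥Cfsg.M24) : G := φ σ * t * (φ σ)⁻¹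

theorem tAt_one (φ : ↥Cfsg.M24 →* G) (t : G) : tAt φ t 1 = t := by simp [tAt]

theorem tAt_mul (φ : ↥Cfsg.M24 →* G) (t : G) (ρ σ : ↥Cfsg.M24) :
    tAt φ t (ρ * σ) = φ ρ * tAt φ t σ * (φ ρ)⁻¹ := by
  rw [tAt, tAt, map_mul]; group

variable {φ : ↥Cfsg.M24 →* G} {t : G} (hc : ∀ σ ∈ trioStab, Commute (φ σ) t)
include hc

/-- The involution depends only on the coset of the stabiliser. -/
theorem tAt_eq {σ σ' : ↥Cfsg.M24} (h : σ⁻¹ * σ' ∈ trioStab) : tAt φ t σ' = tAt φ t σ := by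
  rw [show σ' = σ * (σ⁻¹ * σ') by group, tAt, tAt, map_mul]
  calc φ σ * φ (σ⁻¹ * σ') * t * (φ σ * φ (σ⁻¹ * σ'))⁻¹
      = φ σ * (φ (σ⁻¹ * σ') * t * (φ (σ⁻¹ * σ'))⁻¹) * (φ σ)⁻¹ := by group
    _ = φ σ * t * (φ σ)⁻¹ := by rw [(hc _ h).eq, mul_inv_cancel_right]

/-- The stabiliser of the moved trio centralises the moved involution. -/
theorem tAt_comm {σ ρ : ↥Cfsg.M24} (h : σ⁻¹ * ρ * σ ∈ trioStab) : Commute (φ ρ) (tAt φ t σ) := by
  have e : tAt φ t (ρ * σ) = tAt φ t σ :=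
    tAt_eq hc (by rw [show σ⁻¹ * (ρ * σ) = σ⁻¹ * ρ * σ by group]; exact h)
  rw [tAt_mul, mul_inv_eq_iff_eq_mul] at e
  exact e

omit hc

theorem tAt_isT (hT : IsT (φ dσ) t) (σ : ↥Cfsg.M24) : IsT (φ (σ * dσ * σ⁻¹)) (tAt φ t σ) := by
  rw [map_mul, map_mul, map_inv]
  exact hT.conj _

theorem tAt_isConj {z : G} (hz : IsConj z t) (σ : ↥Cfsg.M24) : IsConj z (tAt φ t σ) :=
  hz.trans (isConj_iff.2 ⟨φ σ, rfl⟩)

/-- Membership in conjugates of `V` moves along. -/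
theorem tAt_mem_conjV {V : Subgroup G} {g : G} (h : t ∈ conjV V g) (σ : ↥Cfsg.M24) :
    tAt φ t σ ∈ conjV V (φ σ * g) := by
  rw [mem_conjV] at h ⊢
  rw [tAt, show (φ σ * g)⁻¹ * (φ σ * t * (φ σ)⁻¹) * (φ σ * g) = g⁻¹ * t * g by group]
  exact h

theorem tAt_commute {x : G} (h : Commute t x) (σ : ↥Cfsg.M24) :
    Commute (tAt φ t σ) (φ σ * x * (φ σ)⁻¹) := by
  calc tAt φ t σ * (φ σ * x * (φ σ)⁻¹) = φ σ * (t * x) * (φ σ)⁻¹ := by rw [tAt]; group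
    _ = φ σ * (x * t) * (φ σ)⁻¹ := by rw [h.eq]
    _ = φ σ * x * (φ σ)⁻¹ * tAt φ t σ := by rw [tAt]; group

end Cfsg.Agent.H48.J4U
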