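import Cfsg.Agent.H48.J4U.Invol
import Cfsg.Agent.H38.JFour.Model

/-!
The hypotheses `Env` from a dictionary of `V` and a complement whose free involutions are not conjugate to `z`.
-/

set_option autoImplicit false

namespace Cfsg.Agent.H48.J4U

open Subgroup Cfsg Cfsg.Agent.Golay H38.JFour H43.JFour H98.JFour

universe u v

lemma tblImg_pair {T i j : ℕ} (hT : validT T = true) (hi : i < 24) (hj : j < 24) :
    tblImg T (2 ^ i ^^^ 2 ^ j) = 2 ^ app T i ^^^ 2 ^ app T j := by
  have hv := validT_bijective hT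
  have hinj : ∀ {a b : ℕ}, a < 24 → b < 24 → app T a = app T b → a = b := by
    intro a b ha hb e
    have h' := hv.1.1 (show tblFun T (pt a) = tblFun T (pt b) by
      rw [tblFun, tblFun, idx_pt a ha, idx_pt b hb, e])
    exact (pt_inj ha hb).1 h'
  refine Nat.eq_of_testBit_eq fun k => Bool.eq_iff_iff.2 ?_
  rw [testBit_tblImg]
  simp only [Nat.testBit_xor, Nat.testBit_two_pow]
  by_cases hij : i = j
  · subst hij; simp
  have hij' : app T i ≠ app T j := fun e => hij (hinj hi hj e)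
  constructor
  · rintro ⟨l, hl, hb, rfl⟩
    by_cases e1 : i = l
    · subst e1; simp [Ne.symm hij']
    · by_cases e2 : j = l
      · subst e2; simp [hij']
      · simp [e1, e2] at hb
  · intro hk
    by_cases e1 : app T i = k
    · exact ⟨i, hi, by simp [Ne.symm hij], e1⟩
    · by_cases e2 : app T j = k
      · exact ⟨j, hj, by simp [hij], e2⟩
      · simp [e1, e2] at hk

lemma pairS_ev : ((List.range 24).all fun i => (List.range 24).all fun j => ev (pairS i j)) = true := by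
  decide +kernel

lemma basis_pair : (basisE == (List.range 11).map fun i => 2 ^ i ^^^ 2 ^ (i + 1)) = true := by
  decide +kernel

theorem linGens_ev {T : ℕ} (hT : validT T = true) : (linGens T).all ev = true := by
  rw [List.all_eq_true]
  intro y hy
  rw [linGens, beq_iff_eq.1 basis_pair, List.map_map, List.mem_map] at hy
  obtain ⟨i, hi, rfl⟩ := hy
  rw [List.mem_range] at hi
  have h := pairS_ev
  simp only [List.all_eq_true, List.mem_range] at h
  show ev (red (tblImg T (2 ^ i ^^^ 2 ^ (i + 1)))) = true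
  rw [tblImg_pair hT (by omega) (by omega)]
  exact h _ ((validT_bijective hT).2 i (by omega)) _ ((validT_bijective hT).2 _ (by omega))

variable {G : Type u} [Group G] [Finite G] {A : Type v} [Group A]
variable {c : Ctx G A} {M W : Subgroup A} {h : Pkg c M W} {K : Subgroup G} {t₀ : h.V}

/-- `Env` for a dictionary and a lift `φ` of the permutations into the complement. -/
theorem env_of_setting (S : Setting h K t₀) {φ : ↥Cfsg.M24 →* G}
    (hφ : ∀ σ, ∃ hσ : φ σ ∈ normalizer (h.V : Set G), φ σ ∈ K ∧ S.Φ ⟨φ σ, hσ⟩ = σ)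
    (hcent : ∀ v ∈ h.V, v ≠ 1 → ¬ IsConj c.z v → centralizer ({v} : Set G) ≤ normalizer (h.V : Set G))
    (hgood : ∀ σ : ↥Cfsg.M24, σ * σ = 1 → (∀ p, (σ : Equiv.Perm GolayPt) p ≠ p) →
      ¬ IsConj c.z (φ σ)) :
    Env c.z h.V S.F φ where
  sq v hv := h.V_sq hv
  φ_norm σ := (hφ σ).1
  φ_trivial σ hV := by
    obtain ⟨hN, -, e⟩ := hφ σ
    rw [← e]; exact (S.Φ_ker _).2 hV
  decomp n hn := by
    obtain ⟨hN, -, e⟩ := hφ (S.Φ ⟨n, hn⟩)
    refine ⟨n * (φ (S.Φ ⟨n, hn⟩))⁻¹, ?_, S.Φ ⟨n, hn⟩, by group⟩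
    have := (S.Φ_ker (⟨n, hn⟩ * ⟨φ (S.Φ ⟨n, hn⟩), hN⟩⁻¹)).1
      (by rw [map_mul, map_inv, e, mul_inv_cancel])
    exact this
  F_mem := S.F_mem
  conj_pair σ a b := by
    obtain ⟨hN, -, e⟩ := hφ σ
    letI := h.commV
    have hF : ∀ p q : GolayPt, S.F (pairP p q) = ((S.D.g p * S.D.g q : h.V) : G) := fun p q => by
      show ((S.D.φ (pairS (idx p) (idx q)) : h.V) : G) = _
      rw [S.D.φ_pair (idx_lt p) (idx_lt q), pt_idx, pt_idx]
    have h1 := congrArg Subtype.val (S.D.equiv (h.conjV.rangeRestrict ⟨φ σ, hN⟩) a b)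
    rw [MonoidHom.coe_rangeRestrict, h.conjV_apply] at h1
    rw [hF, hF]
    refine h1.trans ?_
    conv_rhs => rw [← e]
    rfl
  pair_inj s s' hs hs' e := S.F_inj (ev_of_isDuad hs).1 (ev_of_isDuad hs').1 e
  exists_pair v hv h1 hz := by
    obtain ⟨s, hs, rfl⟩ := S.exists_F hv
    obtain ⟨a, b, hab, rfl⟩ := exists_pairP ((S.F_rest hs).1
      ⟨⟨hv, h1⟩, fun e => hz (h.zOrb_isConj e)⟩)
    exact ⟨a, b, hab, rfl⟩
  cent := hcent
  duad_not_conj s hs e := by
    have := isSext_ev ((S.F_isConj (ev_of_isDuad hs).1).1 e)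
    rw [hs] at this
    exact Bool.noConfusion this.2.2
  free_not_conj := hgood
  conj_lin T hT s hs := by
    obtain ⟨hN, -, e⟩ := hφ (tPerm T hT)
    exact (S.maps_of_table (n := ⟨_, hN⟩) (validT_of_inM24 hT) (by rw [e]; rfl)
      (linGens_ev (validT_of_inM24 hT))).1.2 s hs
  F_xor := S.F_xor
  F_zero s hs := (S.F_eq_one hs).1
  exists_F v hv := by
    obtain ⟨s, hs, e⟩ := S.exists_F hv
    exact ⟨s, hs, e⟩
  F_inj a b ha hb := S.F_inj ha hb

end Cfsg.Agent.H48.J4U
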