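import Cfsg.Agent.H48.J4U.Data

/-!
The chosen involutions lie in the groups of their sextets: they move each point inside its tetrad.
-/

set_option autoImplicit false
set_option maxRecDepth 100000

namespace Cfsg.Agent.H48.J4U

open Cfsg.Agent.Golay H38.JFour

/-- `T` moves no point out of its tetrad in the sextet `a`. -/
def keepsTetrads (a T : ℕ) : Bool :=
  (List.range 24).all fun i => app T i == i || isDuad (a ^^^ pairS i (app T i))

lemma keeps_check : (uList.all (fun q => keepsTetrads q.1 q.2) && keepsTetrads 698 eT &&
    tblEq (tblMul eT eT) idTbl && zList.all (fun a => isSext a)) = true := by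
  decide +kernel

end Cfsg.Agent.H48.J4U
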