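import Cfsg.Agent.H93.J4U.Base
import Cfsg.Agent.H48.J4U.FromSetting

/-!
The involution of the base trio inside the standing data for the uniqueness proof.
-/

set_option autoImplicit false

namespace Cfsg.Agent.H48.J4U

open Subgroup Cfsg Cfsg.Agent.Golay H38.JFour H93.J4U

universe u

variable {G : Type u} [Group G] [Finite G]

theorem env_of_uni (D : Uni G) (hgood : ∀ σ : ↥Cfsg.M24, σ * σ = 1 →
    (∀ p, (σ : Equiv.Perm GolayPt) p ≠ p) → ¬ IsConj D.z (D.φ σ)) :
    Env D.z D.V D.F D.φ :=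
  env_of_setting D.S (fun σ => ⟨D.φ_mem_normalizer σ, D.φ_mem σ, D.Φ_φ σ⟩) D.cent hgood

/-- **The involution of the base trio** in the standing data. -/
theorem exists_trioInv_uni (D : Uni G)
    (hgood : ∀ σ : ↥Cfsg.M24, σ * σ = 1 → (∀ p, (σ : Equiv.Perm GolayPt) p ≠ p) → ¬ IsConj D.z (D.φ σ))
    (hU : HexHyp D.V D.F D.φ) : ∃ t : G, IsTrioInv D.z D.V D.F D.φ t := by
  haveI := D.simple
  exact exists_trioInv_ok D.hG D.h.hc D.h.hd (env_of_uni D hgood) hU

theorem conjV_eq_VC (D : Uni G) (g : G) : conjV D.V g = D.VC g := rfl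

end Cfsg.Agent.H48.J4U
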