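import Cfsg.Agent.H93.J4U.SextSet
import Cfsg.Agent.H48.J4U.Uni

/-!
The hexad hypothesis of the seven sextets of the base trio from the conjugate of `V` at the sextet `698`.
-/

set_option autoImplicit false
set_option maxRecDepth 100000

namespace Cfsg.Agent.H48.J4U

open Subgroup Cfsg Cfsg.Agent.Golay H38.JFour H93.J4U

universe u

/-- For each sextet: the chosen involution, an element moving `698` to the sextet, and the preimage of the
involution. -/
def hexList : List (ℕ × ℕ × ℕ × ℕ) := [
  (698, 303934666482472510870088253164633089, 984818244535754528103549039458486304, 303934666482472510870088253164633089),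
  (1463, 420871937280519645355379355080342529, 942055198788311373811753286507792416, 303934666482472510870088253164633089),
  (1805, 175667473023329699678854777731955713, 903068278123601289291589566474586144, 303934666482472510870088253164633089),
  (2390, 943799486375515889087421650358949163, 421480357806769708485600946592778592, 303934666482472510870088253164633089),
  (3052, 944002183535324198637054212187630121, 933617284435334261117237663859050784, 303934666482472510870088253164633089),
  (3297, 310668426033999560676041589441171921, 636990879398005489733774879996611104, 303934666482472510870088253164633089),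
  (3675, 296592434314272111916471104909355369, 633056365477570670426325013479131424, 303934666482472510870088253164633089)]

lemma hex_check : (uList == hexList.map (fun r => (r.1, r.2.1)) && Tab.groupT.contains eT &&
    hexList.all fun r => inM24 r.2.1 && inM24 r.2.2.1 && Tab.groupT.contains r.2.2.2 &&
      img r.2.2.1 Tab.aS == r.1 && tblEq (tblMul r.2.1 r.2.2.1) (tblMul r.2.2.1 r.2.2.2) &&
      (!(r.1 == 698) || tblEq r.2.2.1 idTbl)) = true := by
  decide +kernel

variable {G : Type u} [Group G] [Finite G]

theorem el_eq_tPerm_of {T : ℕ} (h : inM24 T = true) : H93.J4U.el T = tPerm T h :=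
  H93.J4U.el_eq h

/-- The hexad hypothesis from the sextet `698`. -/
theorem hexHyp_of_698 (D : Uni G) (h698 : ∃ g : G, D.F Tab.aS ∈ D.VC g ∧
    ∀ T ∈ Tab.groupT, D.φ (H93.J4U.el T) ∈ D.VC g) : HexHyp D.V D.F D.φ := by
  obtain ⟨g, hg, hT⟩ := h698
  have hc := hex_check
  simp only [Bool.and_eq_true, beq_iff_eq, List.all_eq_true, List.contains_iff_mem, Bool.or_eq_true,
    Bool.not_eq_true', beq_eq_false_iff_ne] at hc
  obtain ⟨⟨hu, he⟩, hall⟩ := hc
  intro q hq
  obtain ⟨r, hr, rfl⟩ := List.mem_map.1 (hu ▸ hq)
  obtain ⟨⟨⟨⟨⟨h1, h2⟩, h3⟩, h4⟩, h5⟩, h6⟩ := hall r hr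
  have hB := Tab.group_mem h3
  have hmul : H93.J4U.el r.2.1 * H93.J4U.el r.2.2.1 =
      H93.J4U.el r.2.2.1 * H93.J4U.el r.2.2.2 := by
    apply Subtype.ext
    rw [Subgroup.coe_mul, Subgroup.coe_mul, H93.J4U.el_coe h1, H93.J4U.el_coe h2, H93.J4U.el_coe hB]
    have ha := tblMul_spec (validT_of_inM24 h1) (validT_of_inM24 h2)
    have hb := tblMul_spec (validT_of_inM24 h2) (validT_of_inM24 hB)
    rw [← ha.2, ← hb.2, mkPerm_eq_of_tblEq ha.1 hb.1 h5]
  have mv : ∀ {x : G}, x ∈ D.VC g →
      D.φ (H93.J4U.el r.2.2.1) * x * (D.φ (H93.J4U.el r.2.2.1))⁻¹ ∈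
        conjV D.V (D.φ (H93.J4U.el r.2.2.1) * g) := by
    intro x hx
    rw [mem_conjV]
    convert D.mem_VC.1 hx using 1
    group
  refine ⟨D.φ (H93.J4U.el r.2.2.1) * g, ?_, ?_, fun e => ?_⟩
  · have := mv hg
    rwa [D.conj_el h2 (isSext_ev Tab.half_facts.1).1, h4] at this
  · have := mv (hT _ h3)
    rwa [← map_mul, ← map_inv, ← map_mul, ← hmul, mul_inv_cancel_right, el_eq_tPerm_of h1] at this
  · have h1' : H93.J4U.el r.2.2.1 = 1 := by
      apply Subtype.ext
      rw [H93.J4U.el_coe h2, mkPerm_eq_of_tblEq (validT_of_inM24 h2) idTbl_spec.1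
        (h6.resolve_left (fun hn => hn e)), idTbl_spec.2]
      rfl
    rw [h1', map_one, one_mul, ← el_eq_tPerm_of]
    exact hT _ he

end Cfsg.Agent.H48.J4U
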