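import Cfsg.Agent.H93.J4U.Hexad
import Cfsg.Agent.H48.J4U.HexInst

/-!
The involution of the base trio in standing data with a good complement, with no further hypothesis.
-/

set_option autoImplicit false

namespace Cfsg.Agent.H48.J4U

open Subgroup Cfsg Cfsg.Agent.Golay H38.JFour H93.J4U

universe u

variable {G : Type u} [Group G] [Finite G]

theorem hexHyp_of_good (D : Uni G) (hg : D.Good) : HexHyp D.V D.F D.φ := by
  obtain ⟨g, -, h1, h2, -⟩ := D.exists_hex_a hg
  exact hexHyp_of_698 D ⟨g, h1, fun T hT => h2 _ (D.group_core hT)⟩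

/-- **The involution of the base trio** for a good complement. -/
theorem exists_trioInv_good (D : Uni G) (hg : D.Good) : ∃ t : G, IsTrioInv D.z D.V D.F D.φ t :=
  exists_trioInv_uni D hg (hexHyp_of_good D hg)

end Cfsg.Agent.H48.J4U
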