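import Cfsg.Agent.H48.J4U.Model
import Cfsg.Agent.H48.J4U.Check
import Cfsg.Agent.H48.J4U.CenInv

/-!
The involution attached to the base trio in a group of Janko-four type: it centralises the stabiliser of the trio,
lies in the conjugates of `V` given by the seven sextets, and its centraliser in `V` is the span of the sextets.
-/

set_option autoImplicit false

namespace Cfsg.Agent.H48.J4U

open Subgroup Cfsg Cfsg.Agent.Golay H38.JFour

universe u

/-- The element of `M₂₄` of a checked table. -/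
noncomputable def tPerm (T : ℕ) (h : inM24 T = true) : ↥Cfsg.M24 := ⟨mkPerm T, mem_M24_of_inM24 h⟩

theorem gen_facts : inM24 xT = true ∧ inM24 wT = true ∧ (∀ T ∈ gList, inM24 T = true) ∧
    (∀ q ∈ uList, inM24 q.2 = true) ∧ inM24 sT = true ∧ inM24 eT = true := by
  have h := gen_check
  simp only [Bool.and_eq_true, List.all_eq_true] at h
  obtain ⟨⟨⟨⟨⟨⟨⟨⟨⟨⟨⟨h1, h2⟩, h3⟩, h4⟩, -⟩, -⟩, -⟩, -⟩, -⟩, -⟩, h5⟩, h6⟩ := h
  exact ⟨h1, h2, h3, h4, h5, h6⟩

theorem dT_mem : inM24 dT = true := gen_facts.2.2.1 _ (by simp [gList])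

theorem words_lt : (∀ w ∈ stabWords, ∀ i ∈ w, i < 5) ∧ (∀ k, ∀ i ∈ pointWords.getD k [], i < 5) ∧
    (∀ w ∈ moveWords, ∀ i ∈ w, i < 5) ∧ (∀ i ∈ xWord, i < 5) ∧ (∀ i ∈ wWd, i < 5) := by
  have h := point_check
  simp only [Bool.and_eq_true, List.all_eq_true, decide_eq_true_eq] at h
  obtain ⟨⟨⟨⟨⟨-, h1⟩, h2⟩, h3⟩, h4⟩, h5⟩ := h
  refine ⟨h1, fun k => ?_, h3, h4, h5⟩
  rcases Nat.lt_or_ge k pointWords.length with hk | hk
  · rw [List.getD_eq_getElem _ _ hk]; exact h2 _ (List.getElem_mem hk)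
  · rw [List.getD_eq_default _ _ hk]; simp

/-- The first generator of the stabiliser of the base trio. -/
noncomputable def xσ : ↥Cfsg.M24 := tPerm xT gen_facts.1

/-- The second generator of the stabiliser of the base trio. -/
noncomputable def wσ : ↥Cfsg.M24 := tPerm wT gen_facts.2.1

/-- The element of order three attached to the base trio. -/
noncomputable def dσ : ↥Cfsg.M24 := tPerm dT dT_mem

/-- The stabiliser of the base trio, by generators. -/
noncomputable def trioStab : Subgroup ↥Cfsg.M24 := Subgroup.closure {xσ, wσ}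

variable {G : Type u} [Group G]

/-- The facts on `N(V)` and the fusion used for the involution of a trio. -/
structure Env (z : G) (V : Subgroup G) (F : ℕ → G) (φ : ↥Cfsg.M24 →* G) : Prop
    extends Mdl z V F φ where
  cent : ∀ v ∈ V, v ≠ 1 → ¬ IsConj z v → centralizer ({v} : Set G) ≤ normalizer (V : Set G)
  duad_not_conj : ∀ s, isDuad s = true → ¬ IsConj z (F s)
  free_not_conj : ∀ σ : ↥Cfsg.M24, σ * σ = 1 → (∀ p, (σ : Equiv.Perm GolayPt) p ≠ p) →
    ¬ IsConj z (φ σ)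
  conj_lin : ∀ (T : ℕ) (hT : inM24 T = true) (s : ℕ), ev s = true → ev (lin (linGens T) s) = true ∧
    φ (tPerm T hT) * F s * (φ (tPerm T hT))⁻¹ = F (lin (linGens T) s)
  F_xor : ∀ a b, F (a ^^^ b) = F a * F b
  F_zero : ∀ s, ev s = true → F s = 1 → s = 0
  exists_F : ∀ v ∈ V, ∃ s, ev s = true ∧ F s = v
  F_inj : ∀ a b, ev a = true → ev b = true → F a = F b → a = b

/-- The conjugate of `V` by `g`. -/
def conjV (V : Subgroup G) (g : G) : Subgroup G := V.map (MulAut.conj g).toMonoidHom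

theorem mem_conjV {V : Subgroup G} {g x : G} : x ∈ conjV V g ↔ g⁻¹ * x * g ∈ V :=
  H43.JFour.Ctx.mem_conj_map V g x

namespace Env

variable {z : G} {V : Subgroup G} {F : ℕ → G} {φ : ↥Cfsg.M24 →* G} (E : Env z V F φ)
include E

theorem φ_inj {σ τ : ↥Cfsg.M24} (e : φ σ = φ τ) : σ = τ :=
  mul_inv_eq_one.1 (E.φ_trivial _ (by rw [map_mul, map_inv, e, mul_inv_cancel]; exact one_mem V))

theorem orderOf_d : orderOf (φ dσ) = 3 := by
  have h := gen_check
  simp only [Bool.and_eq_true, Bool.not_eq_true'] at h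
  obtain ⟨⟨⟨⟨⟨⟨⟨⟨-, h3⟩, hne⟩, -⟩, -⟩, -⟩, -⟩, -⟩, -⟩ := h
  have hv := validT_of_inM24 dT_mem
  have h2 := tblMul_spec hv hv
  have h33 := tblMul_spec h2.1 hv
  rw [orderOf_injective φ (fun _ _ e => E.φ_inj e), ← Subgroup.orderOf_coe]
  have : Fact (Nat.Prime 3) := ⟨Nat.prime_three⟩
  refine orderOf_eq_prime ?_ fun e => ?_
  · rw [pow_succ, pow_two]
    show mkPerm dT * mkPerm dT * mkPerm dT = 1
    rw [← h2.2, ← h33.2, mkPerm_eq_of_tblEq h33.1 idTbl_spec.1 h3, idTbl_spec.2]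
  · have e' : mkPerm dT = 1 := e
    have : tblEq dT idTbl = true := by
      rw [tblEq, List.all_eq_true]
      intro i hi
      have h' := idx_mkPerm hv (pt i)
      have h'' := idx_mkPerm idTbl_spec.1 (pt i)
      rw [idx_pt i (List.mem_range.1 hi)] at h' h''
      rw [beq_iff_eq, ← h', ← h'', e', idTbl_spec.2]
    rw [this] at hne
    exact Bool.noConfusion hne

/-- An involution attached to an element of order three lies in each conjugate of `V` containing an involution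
centralised by the element and not conjugate to `z`. -/
theorem isT_mem_conj {d t u g : G} (hd : orderOf d = 3) (hT : IsT d t) (hu : u ∈ conjV V g)
    (hu1 : u ≠ 1) (huz : ¬ IsConj z u) (hdu : Commute d u) : t ∈ conjV V g := by
  rw [mem_conjV] at hu ⊢
  have hu1' : g⁻¹ * u * g ≠ 1 := fun e => hu1 (by
    rw [show u = g * (g⁻¹ * u * g) * g⁻¹ by group, e]; group)
  have huz' : ¬ IsConj z (g⁻¹ * u * g) := fun h => huz (h.trans (isConj_iff.2 ⟨g, by group⟩))
  have hT' := hT.conj g⁻¹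
  rw [inv_inv] at hT'
  refine E.toMdl.isT_mem (d := g⁻¹ * d * g) ?_ hT' hu hu1' huz' ?_ (E.cent _ hu hu1' huz')
  · have := MulEquiv.orderOf_eq (MulAut.conj g⁻¹) d
    rw [MulAut.conj_apply, inv_inv] at this
    rw [this, hd]
  · calc g⁻¹ * d * g * (g⁻¹ * u * g) = g⁻¹ * (d * u) * g := by group
      _ = g⁻¹ * (u * d) * g := by rw [hdu.eq]
      _ = g⁻¹ * u * g * (g⁻¹ * d * g) := by group

theorem comm_conjV {g a b : G} (ha : a ∈ conjV V g) (hb : b ∈ conjV V g) : Commute a b := by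
  rw [mem_conjV] at ha hb
  calc a * b = g * ((g⁻¹ * a * g) * (g⁻¹ * b * g)) * g⁻¹ := by group
    _ = g * ((g⁻¹ * b * g) * (g⁻¹ * a * g)) * g⁻¹ := by rw [E.toMdl.comm ha hb]
    _ = b * a := by group

theorem u_facts {q : ℕ × ℕ} (hq : q ∈ uList) :
    φ (tPerm q.2 (gen_facts.2.2.2.1 q hq)) ≠ 1 ∧ ¬ IsConj z (φ (tPerm q.2 (gen_facts.2.2.2.1 q hq))) ∧
    Commute (φ dσ) (φ (tPerm q.2 (gen_facts.2.2.2.1 q hq))) := by
  have h := u_check
  simp only [List.all_eq_true, Bool.and_eq_true, Bool.not_eq_true', beq_eq_false_iff_ne,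
    List.mem_range] at h
  obtain ⟨⟨⟨-, hc⟩, hs⟩, hf⟩ := h q hq
  have hv := validT_of_inM24 (gen_facts.2.2.2.1 q hq)
  have hd := validT_of_inM24 dT_mem
  have h1 := tblMul_spec hv hd
  have h2 := tblMul_spec hd hv
  have h3 := tblMul_spec hv hv
  have hfree : ∀ p, (tPerm q.2 (gen_facts.2.2.2.1 q hq) : Equiv.Perm GolayPt) p ≠ p := fun p e => by
    refine hf (idx p) (idx_lt p) ?_
    rw [← idx_mkPerm hv]
    exact congrArg idx e
  have hsq : tPerm q.2 (gen_facts.2.2.2.1 q hq) * tPerm q.2 (gen_facts.2.2.2.1 q hq) = 1 := Subtype.ext (by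
    show mkPerm q.2 * mkPerm q.2 = 1
    rw [← h3.2, mkPerm_eq_of_tblEq h3.1 idTbl_spec.1 hs, idTbl_spec.2])
  refine ⟨fun e => ?_, E.free_not_conj _ hsq hfree, ?_⟩
  · rw [← map_one φ] at e
    exact hfree none (by rw [E.φ_inj e]; rfl)
  · show φ dσ * _ = _ * φ dσ
    rw [← map_mul, ← map_mul]
    refine congrArg φ (Subtype.ext ?_)
    show mkPerm dT * mkPerm q.2 = mkPerm q.2 * mkPerm dT
    rw [← h1.2, ← h2.2, mkPerm_eq_of_tblEq h1.1 h2.1 hc]

variable {t : G} (hT : IsT (φ dσ) t)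
include hT

theorem mem_of_u {q : ℕ × ℕ} (hq : q ∈ uList) {g : G}
    (hu : φ (tPerm q.2 (gen_facts.2.2.2.1 q hq)) ∈ conjV V g) : t ∈ conjV V g :=
  E.isT_mem_conj E.orderOf_d hT hu (E.u_facts hq).1 (E.u_facts hq).2.1 (E.u_facts hq).2.2

end Env

/-- What is used of the conjugates of `V` attached to the seven sextets: each contains the sextet and the chosen
involutions of its group. -/
def HexHyp (V : Subgroup G) (F : ℕ → G) (φ : ↥Cfsg.M24 →* G) : Prop :=
  ∀ q, ∀ hq : q ∈ uList, ∃ g : G, F q.1 ∈ conjV V g ∧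
    φ (tPerm q.2 (gen_facts.2.2.2.1 q hq)) ∈ conjV V g ∧
    (q.1 = 698 → φ (tPerm eT gen_facts.2.2.2.2.2) ∈ conjV V g)

namespace Env

variable {z : G} {V : Subgroup G} {F : ℕ → G} {φ : ↥Cfsg.M24 →* G} (E : Env z V F φ)
variable {t : G} (hT : IsT (φ dσ) t) (hU : HexHyp V F φ)
include E hT hU

theorem comm_sextet {a : ℕ} (ha : a ∈ zList) : Commute t (F a) := by
  have hz : ∀ a ∈ zList, ∃ q ∈ uList, q.1 = a := by decide
  obtain ⟨q, hq, rfl⟩ := hz a ha
  obtain ⟨g, hF, hu, -⟩ := hU q hq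
  exact E.comm_conjV (E.mem_of_u hT hq hu) hF

theorem gens_comm (huniq : ∀ t', IsT (φ dσ) t' → t' = t) (T : ℕ) (hmem : T ∈ gList) :
    Commute (φ (tPerm T (gen_facts.2.2.1 T hmem))) t := by
  have hu : ∀ q, ∀ hq : q ∈ uList, Commute (φ (tPerm q.2 (gen_facts.2.2.2.1 q hq))) t := fun q hq => by
    obtain ⟨g, -, h1, -⟩ := hU q hq
    exact E.comm_conjV h1 (E.mem_of_u hT hq h1)
  have key : T = dT ∨ T = sT ∨ T = eT ∨ ∃ q ∈ uList, q.2 = T := by
    have : ∀ T ∈ gList, T = dT ∨ T = sT ∨ T = eT ∨ ∃ q ∈ uList, q.2 = T := by decide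
    exact this T hmem
  rcases key with rfl | rfl | rfl | ⟨q, hq, rfl⟩
  · exact hT.commute
  · have h := gen_check
    simp only [Bool.and_eq_true] at h
    obtain ⟨⟨⟨⟨⟨⟨-, hs2⟩, hsd⟩, -⟩, -⟩, -⟩, -⟩ := h
    have hs := validT_of_inM24 gen_facts.2.2.2.2.1
    have hd := validT_of_inM24 dT_mem
    have h1 := tblMul_spec hs hs
    have h2 := tblMul_spec (tblMul_spec hs hd).1 hs
    have h3 := tblMul_spec hd hd
    set s := tPerm sT gen_facts.2.2.2.2.1
    have hss : s * s = 1 := Subtype.ext (by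
      show mkPerm sT * mkPerm sT = 1
      rw [← h1.2, mkPerm_eq_of_tblEq h1.1 idTbl_spec.1 hs2, idTbl_spec.2])
    have hsds : s * dσ * s = dσ * dσ := Subtype.ext (by
      show mkPerm sT * mkPerm dT * mkPerm sT = mkPerm dT * mkPerm dT
      rw [← (tblMul_spec hs hd).2, ← h2.2, ← h3.2, mkPerm_eq_of_tblEq h2.1 h3.1 hsd])
    have hsi : (φ s)⁻¹ = φ s := by rw [← map_inv, inv_eq_of_mul_eq_one_right hss]
    have hd2 : φ dσ * φ dσ = (φ dσ)⁻¹ := by
      refine eq_inv_of_mul_eq_one_left ?_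
      rw [← pow_two, ← pow_succ, show 2 + 1 = 3 from rfl, ← E.orderOf_d, pow_orderOf_eq_one]
    have hconj : φ s * φ dσ * (φ s)⁻¹ = (φ dσ)⁻¹ := by
      rw [hsi, ← map_mul, ← map_mul, hsds, map_mul, hd2]
    have hT2 := hT.conj (φ s)
    rw [hconj] at hT2
    have hT3 : IsT (φ dσ) (φ s * t * (φ s)⁻¹) := by simpa using hT2.inv_left
    exact mul_inv_eq_iff_eq_mul.1 (huniq _ hT3)
  · obtain ⟨q, hq, hq1⟩ : ∃ q ∈ uList, q.1 = 698 := by decide
    obtain ⟨g, -, h1, h2⟩ := hU q hq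
    exact E.comm_conjV (h2 hq1) (E.mem_of_u hT hq h1)
  · exact hu q hq

variable (huniq : ∀ t', IsT (φ dσ) t' → t' = t)
include huniq

/-- Words in the generators give elements commuting with the involution. -/
theorem word_comm (w : List ℕ) (hw : ∀ i ∈ w, i < 5) :
    ∃ h : inM24 (wordT w) = true, Commute (φ (tPerm (wordT w) h)) t := by
  suffices key : ∀ (w : List ℕ), (∀ i ∈ w, i < 5) → ∀ acc σ, validT acc = true →
      mkPerm acc = ((σ : ↥Cfsg.M24) : Equiv.Perm GolayPt) → Commute (φ σ) t →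
      ∃ τ : ↥Cfsg.M24, validT (w.foldl (fun a i => tblMul a (gList.getD i idTbl)) acc) = true ∧
        mkPerm (w.foldl (fun a i => tblMul a (gList.getD i idTbl)) acc) = (τ : Equiv.Perm GolayPt) ∧
        Commute (φ τ) t by
    obtain ⟨τ, hv, he, hc⟩ := key w hw idTbl 1 idTbl_spec.1 (by rw [idTbl_spec.2]; rfl)
      (by rw [map_one]; exact Commute.one_left t)
    have hin : inM24 (wordT w) = true := (inM24_iff hv).2 (he ▸ τ.2)
    refine ⟨hin, ?_⟩
    rwa [show tPerm (wordT w) hin = τ from Subtype.ext he]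
  intro w
  induction w with
  | nil => intro _ acc σ hv he hc; exact ⟨σ, hv, he, hc⟩
  | cons i w ih =>
    intro hw acc σ hv he hc
    have hi : i < gList.length := by
      have := hw i List.mem_cons_self
      simpa [gList] using this
    have hget : gList.getD i idTbl = gList[i] := List.getD_eq_getElem _ _ hi
    have hmem : gList.getD i idTbl ∈ gList := hget ▸ List.getElem_mem hi
    have hin := gen_facts.2.2.1 _ hmem
    have hsp := tblMul_spec hv (validT_of_inM24 hin)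
    rw [List.foldl_cons]
    refine ih (fun j hj => hw j (List.mem_cons_of_mem _ hj)) _ (σ * tPerm _ hin) hsp.1 ?_ ?_
    · rw [hsp.2, he]; rfl
    · rw [map_mul]; exact hc.mul_left (E.gens_comm hT hU huniq _ hmem)

theorem xw_comm : Commute (φ xσ) t ∧ Commute (φ wσ) t := by
  have h := gen_check
  simp only [Bool.and_eq_true] at h
  obtain ⟨⟨⟨⟨-, hx⟩, hw⟩, -⟩, -⟩ := h
  obtain ⟨-, -, -, h4, h5⟩ := words_lt
  constructor
  · obtain ⟨hin, hc⟩ := E.word_comm hT hU huniq _ h4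
    rwa [show xσ = tPerm (wordT xWord) hin from Subtype.ext
      (mkPerm_eq_of_tblEq (validT_of_inM24 hin) (validT_of_inM24 gen_facts.1) hx).symm]
  · obtain ⟨hin, hc⟩ := E.word_comm hT hU huniq _ h5
    rwa [show wσ = tPerm (wordT wWd) hin from Subtype.ext
      (mkPerm_eq_of_tblEq (validT_of_inM24 hin) (validT_of_inM24 gen_facts.2.1) hw).symm]

/-- The involution centralises the stabiliser of the trio. -/
theorem stab_comm {σ : ↥Cfsg.M24} (hσ : σ ∈ trioStab) : Commute (φ σ) t := by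
  induction hσ using Subgroup.closure_induction with
  | mem y hy =>
    rcases hy with rfl | rfl
    exacts [(E.xw_comm hT hU huniq).1, (E.xw_comm hT hU huniq).2]
  | one => rw [map_one]; exact Commute.one_left t
  | mul a b _ _ ha hb => rw [map_mul]; exact ha.mul_left hb
  | inv a _ ha => rw [map_inv]; exact ha.inv_left

/-- A syndrome centralising the involution is one of the seven sextets, or zero. -/
theorem cent_V {s : ℕ} (hs : ev s = true) (hc : Commute t (F s)) : s = 0 ∨ s ∈ zList := by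
  by_contra hne
  rw [not_or] at hne
  have hmv := move_check
  simp only [Bool.and_eq_true, List.all_eq_true, List.mem_range, Bool.or_eq_true, Bool.not_eq_true',
    beq_iff_eq, List.contains_iff_mem, List.any_eq_true] at hmv
  obtain ⟨hlist, hall⟩ := hmv
  have hlt : s < 2 ^ 12 := by
    simp only [ev, Bool.and_eq_true, decide_eq_true_eq] at hs; exact hs.1
  obtain ⟨s', hd, hc'⟩ : ∃ s', isDuad s' = true ∧ Commute t (F s') := by
    rcases hall s hlt with (((h | h) | h) | h) | ⟨gs, hgs, h⟩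
    · rw [hs] at h; exact Bool.noConfusion h
    · exact absurd h hne.1
    · exact absurd h hne.2
    · exact ⟨s, h, hc⟩
    · rw [← hlist] at hgs
      obtain ⟨w, hw, rfl⟩ := List.mem_map.1 hgs
      obtain ⟨hin, hcw⟩ := E.word_comm hT hU huniq w (words_lt.2.2.1 w hw)
      refine ⟨_, h, ?_⟩
      rw [E.F_xor, ← (E.conj_lin _ hin s hs).2]
      exact hc.mul_right ((hcw.symm.mul_right hc).mul_right hcw.symm.inv_right)
  have hs' := ev_of_isDuad hd
  have ht : t ∈ normalizer (V : Set G) :=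
    E.cent _ (E.F_mem s') (fun e => hs'.2 (E.F_zero s' hs'.1 e)) (E.duad_not_conj s' hd)
      (mem_centralizer_iff.2 fun y hy => by rw [Set.mem_singleton_iff.1 hy]; exact hc'.symm.eq)
  obtain ⟨v, hv, κ, rfl⟩ := E.decomp t ht
  have hcomm : ∀ ρ : ↥Cfsg.M24, Commute (φ ρ) (v * φ κ) → ρ * κ = κ * ρ ∧ φ ρ * v * (φ ρ)⁻¹ = v := by
    intro ρ hρ
    have h1 : φ ρ * v * (φ ρ)⁻¹ * φ (ρ * κ * ρ⁻¹) = v * φ κ := by
      rw [map_mul, map_mul, map_inv]
      calc φ ρ * v * (φ ρ)⁻¹ * (φ ρ * φ κ * (φ ρ)⁻¹) = φ ρ * (v * φ κ) * (φ ρ)⁻¹ := by group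
        _ = v * φ κ := by rw [hρ.eq, mul_inv_cancel_right]
    have h2 := E.toMdl.σ_unique (E.toMdl.φ_conj_mem ρ hv) hv h1
    refine ⟨mul_inv_eq_iff_eq_mul.1 h2, ?_⟩
    rw [h2] at h1
    exact mul_right_cancel h1
  have hpc := point_check
  simp only [Bool.and_eq_true, List.all_eq_true, List.mem_range, Bool.or_eq_true, beq_iff_eq,
    List.any_eq_true, Bool.not_eq_true', beq_eq_false_iff_ne] at hpc
  obtain ⟨⟨⟨⟨⟨⟨⟨hst, hsep⟩, htr⟩, -⟩, -⟩, -⟩, -⟩, -⟩ := hpc
  obtain ⟨hw1, hw2, -, -, -⟩ := words_lt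
  have happ : ∀ w (hin : inM24 (wordT w) = true) i, i < 24 →
      (tPerm (wordT w) hin : Equiv.Perm GolayPt) (pt i) = pt (app (wordT w) i) := fun w hin i hi =>
    mkPerm_pt (validT_of_inM24 hin) hi
  have hκ0 : (κ : Equiv.Perm GolayPt) (pt 0) = pt 0 := by
    by_contra hne0
    set i := idx ((κ : Equiv.Perm GolayPt) (pt 0)) with hi
    have hi24 : i < 24 := idx_lt _
    have hi0 : i ≠ 0 := fun e => hne0 (by rw [← pt_idx ((κ : Equiv.Perm GolayPt) (pt 0)), ← hi, e])
    obtain ⟨w, hw, hwi⟩ := (hsep i hi24).resolve_left hi0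
    obtain ⟨hin, hcw⟩ := E.word_comm hT hU huniq w (hw1 w hw)
    have h1 := congrArg (fun σ : ↥Cfsg.M24 => (σ : Equiv.Perm GolayPt) (pt 0)) (hcomm _ hcw).1
    simp only [Subgroup.coe_mul, Equiv.Perm.mul_apply] at h1
    rw [happ w hin 0 (by norm_num), hst w hw, ← pt_idx ((κ : Equiv.Perm GolayPt) (pt 0)), ← hi,
      happ w hin i hi24] at h1
    exact hwi ((pt_inj ((validT_bijective (validT_of_inM24 hin)).2 i hi24) hi24).1 h1)
  have hκ : κ = 1 := by
    refine Subtype.ext (Equiv.ext fun p => ?_)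
    obtain ⟨hin, hcw⟩ := E.word_comm hT hU huniq _ (hw2 (idx p))
    have h1 := congrArg (fun σ : ↥Cfsg.M24 => (σ : Equiv.Perm GolayPt) (pt 0)) (hcomm _ hcw).1
    simp only [Subgroup.coe_mul, Equiv.Perm.mul_apply] at h1
    rw [hκ0, happ _ hin 0 (by norm_num), htr (idx p) (idx_lt p), pt_idx] at h1
    exact h1.symm
  subst hκ
  obtain ⟨s0, hs0, rfl⟩ := E.exists_F v hv
  have hfx := fix_check
  simp only [Bool.and_eq_true, List.all_eq_true, List.mem_range, Bool.or_eq_true, Bool.not_eq_true',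
    beq_iff_eq, List.any_eq_true, beq_eq_false_iff_ne] at hfx
  obtain ⟨hlist2, hall2⟩ := hfx
  have hlt0 : s0 < 2 ^ 12 := by
    have := hs0
    simp only [ev, Bool.and_eq_true, decide_eq_true_eq] at this; exact this.1
  rcases hall2 s0 hlt0 with (h | h) | ⟨gs, hgs, h⟩
  · rw [hs0] at h; exact Bool.noConfusion h
  · apply hT.ne_one
    have h1 : F (0 ^^^ 0) = F 0 * F 0 := E.F_xor 0 0
    rw [Nat.xor_self] at h1
    rw [h, left_eq_mul.1 h1, map_one, mul_one]
  · rw [← hlist2] at hgs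
    obtain ⟨hx, hw⟩ := E.xw_comm hT hU huniq
    have key : ∀ T (hin : inM24 T = true), Commute (φ (tPerm T hin)) (F s0 * φ 1) →
        lin (linGens T) s0 = s0 := fun T hin hc2 => by
      obtain ⟨hev, he⟩ := E.conj_lin T hin s0 hs0
      exact E.F_inj _ _ hev hs0 (he.symm.trans (hcomm _ hc2).2)
    simp only [List.map_cons, List.map_nil, List.mem_cons, List.not_mem_nil, or_false] at hgs
    rcases hgs with rfl | rfl
    exacts [h (key _ _ hx), h (key _ _ hw)]

end Env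

/-- The properties of the involution of the base trio. -/
structure IsTrioInv (z : G) (V : Subgroup G) (F : ℕ → G) (φ : ↥Cfsg.M24 →* G) (t : G) : Prop where
  isT : IsT (φ dσ) t
  uniq : ∀ t', IsT (φ dσ) t' → t' = t
  conj_z : IsConj z t
  stab : ∀ σ ∈ trioStab, Commute (φ σ) t
  mem : ∀ q, ∀ hq : q ∈ uList, ∀ g, φ (tPerm q.2 (gen_facts.2.2.2.1 q hq)) ∈ conjV V g → t ∈ conjV V g
  sext : ∀ a ∈ zList, Commute t (F a)
  centV : ∀ s, ev s = true → Commute t (F s) → s = 0 ∨ s ∈ zList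

/-- **The involution of the base trio**, in a context. -/
theorem exists_trioInv_ok [Finite G] [IsSimpleGroup G] {A : Type*} [Group A] {M : Subgroup A}
    (hG : ¬ IsMulCommutative G) {c : H43.JFour.Ctx G A} (hc : c.Ok) (hA : H43.JFour.AutData A M)
    {V : Subgroup G} {F : ℕ → G} {φ : ↥Cfsg.M24 →* G} (E : Env c.z V F φ) (hU : HexHyp V F φ) :
    ∃ t : G, IsTrioInv c.z V F φ t := by
  obtain ⟨t, hT, hz, huniq⟩ := exists_isT_ok hG hc hA E.orderOf_d
  exact ⟨t, hT, huniq, hz, fun σ hσ => E.stab_comm hT hU huniq hσ, fun q hq g => E.mem_of_u hT hq,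
    fun a ha => E.comm_sextet hT hU ha, fun s hs => E.cent_V hT hU huniq hs⟩

/-- **The involution of the base trio.** -/
theorem exists_trioInv [Finite G] [IsSimpleGroup G] (hG : ¬ IsMulCommutative G) {z : G}
    (hJ : Cfsg.IsOfJankoFourTypeAt z) {V : Subgroup G} {F : ℕ → G} {φ : ↥Cfsg.M24 →* G}
    (E : Env z V F φ) (hU : HexHyp V F φ) :
    ∃ t : G, IsT (φ dσ) t ∧ IsConj z t ∧ (∀ σ ∈ trioStab, Commute (φ σ) t) ∧
      (∀ q, ∀ hq : q ∈ uList, ∀ g, φ (tPerm q.2 (gen_facts.2.2.2.1 q hq)) ∈ conjV V g →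
        t ∈ conjV V g) ∧
      (∀ a ∈ zList, Commute t (F a)) ∧
      (∀ s, ev s = true → Commute t (F s) → s = 0 ∨ s ∈ zList) := by
  obtain ⟨t, hT, hz, huniq⟩ := exists_isT hG hJ E.orderOf_d
  exact ⟨t, hT, hz, fun σ hσ => E.stab_comm hT hU huniq hσ, fun q hq g => E.mem_of_u hT hq,
    fun a ha => E.comm_sextet hT hU ha, fun s hs => E.cent_V hT hU huniq hs⟩

end Cfsg.Agent.H48.J4U
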