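import Mathlib

/-!
An involution centralised by the whole centraliser of an element.
-/

set_option autoImplicit false

namespace Cfsg.Agent.H48.J4U

open Subgroup

universe u

variable {G : Type u} [Group G]

/-- `t` is an involution centralised by everything centralising `d`. -/
def IsT (d t : G) : Prop := orderOf t = 2 ∧ ∀ x : G, Commute x d → Commute x t

theorem IsT.commute {d t : G} (h : IsT d t) : Commute d t := h.2 d (Commute.refl d)

theorem IsT.sq {d t : G} (h : IsT d t) : t * t = 1 := by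
  rw [← pow_two, ← h.1]; exact pow_orderOf_eq_one t

theorem IsT.ne_one {d t : G} (h : IsT d t) : t ≠ 1 := fun e => by
  have := h.1; rw [e, orderOf_one] at this; omega

theorem IsT.conj {d t : G} (h : IsT d t) (g : G) : IsT (g * d * g⁻¹) (g * t * g⁻¹) := by
  refine ⟨by rw [← MulAut.conj_apply, MulEquiv.orderOf_eq]; exact h.1, fun x hx => ?_⟩
  have hx' : Commute (g⁻¹ * x * g) d := by
    calc g⁻¹ * x * g * d = g⁻¹ * (x * (g * d * g⁻¹)) * g := by group
      _ = g⁻¹ * (g * d * g⁻¹ * x) * g := by rw [hx.eq]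
      _ = d * (g⁻¹ * x * g) := by group
  calc x * (g * t * g⁻¹) = g * ((g⁻¹ * x * g) * t) * g⁻¹ := by group
    _ = g * (t * (g⁻¹ * x * g)) * g⁻¹ := by rw [(h.2 _ hx').eq]
    _ = g * t * g⁻¹ * x := by group

theorem IsT.inv_left {d t : G} (h : IsT d t) : IsT d⁻¹ t :=
  ⟨h.1, fun x hx => h.2 x (by simpa using hx.inv_right)⟩

end Cfsg.Agent.H48.J4U
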