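import Cfsg.Agent.S5394
import Cfsg.Agent.S5601
import Cfsg.Agent.H38.JFour.Cocode

/-!
Permutation facts for the involution attached to a trio: an involution commuting with an element of order three
having a fixed point, and preserving every pair of its fixed points, is trivial.
-/

set_option autoImplicit false

namespace Cfsg.Agent.H48.J4U

open Cfsg Cfsg.Agent.Golay H38.JFour

/-- The fixed points of a permutation. -/
def fixSet (σ : Equiv.Perm GolayPt) : Finset GolayPt := Finset.univ.filter fun p => σ p = p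

theorem mem_fixSet {σ : Equiv.Perm GolayPt} {p : GolayPt} : p ∈ fixSet σ ↔ σ p = p := by simp [fixSet]

theorem card_fixSet_six {σ : Equiv.Perm GolayPt} (hσ : σ ∈ Cfsg.M24) (h3 : orderOf σ = 3) {p : GolayPt}
    (hp : σ p = p) : (fixSet σ).card = 6 := by
  set s : ↥Cfsg.M24 := ⟨σ, hσ⟩
  have hX : Nat.card (Subgroup.zpowers s) = 3 := by
    rw [Nat.card_zpowers, ← Subgroup.orderOf_coe]; exact h3
  have hset : {q : GolayPt | ∀ x ∈ Subgroup.zpowers s, ((x : ↥Cfsg.M24) : Equiv.Perm GolayPt) q = q} =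
      ↑(fixSet σ) := by
    ext q
    rw [Set.mem_ofPred_eq, Finset.mem_coe, mem_fixSet]
    refine ⟨fun h => h s (Subgroup.mem_zpowers s), fun h x hx => ?_⟩
    obtain ⟨n, rfl⟩ := Subgroup.mem_zpowers_iff.1 hx
    rw [Subgroup.coe_zpow]
    exact Equiv.Perm.zpow_apply_eq_self_of_apply_eq_self h n
  have h := S5601.result.1 _ hX
  rw [hset, Set.ncard_coe_finset] at h
  exact h.resolve_right (Finset.card_ne_zero_of_mem (mem_fixSet.2 hp))

theorem perm_eq_one {σ κ : Equiv.Perm GolayPt} (hσ : σ ∈ Cfsg.M24) (hκ : κ ∈ Cfsg.M24)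
    (h3 : orderOf σ = 3) (h2 : κ * κ = 1) (hc : Commute σ κ) {p : GolayPt} (hp : σ p = p)
    (hd : ∀ a b, a ≠ b → σ a = a → σ b = b → (κ a = a ∧ κ b = b) ∨ (κ a = b ∧ κ b = a)) : κ = 1 := by
  classical
  have h6 := card_fixSet_six hσ h3 hp
  have hfix : ∀ a, σ a = a → κ a = a := by
    intro a ha
    have h5 : ((fixSet σ).erase a).card = 5 := by
      rw [Finset.card_erase_of_mem (mem_fixSet.2 ha), h6]
    obtain ⟨b, hb, c, hc', hbc⟩ := Finset.one_lt_card.1 (by omega : 1 < ((fixSet σ).erase a).card)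
    rw [Finset.mem_erase, mem_fixSet] at hb hc'
    rcases hd a b (Ne.symm hb.1) ha hb.2 with h | h
    · exact h.1
    · rcases hd a c (Ne.symm hc'.1) ha hc'.2 with h' | h'
      · exact h'.1
      · exact absurd (h.1.symm.trans h'.1) hbc
  by_contra hne
  have : Fact (Nat.Prime 2) := ⟨Nat.prime_two⟩
  have hord : orderOf κ = 2 := orderOf_eq_prime (by rw [pow_two, h2]) hne
  rcases S5394.result.1 κ hκ hord with hO | hO
  swap
  · exact hO p (hfix p hp)
  have h8 : (fixSet κ).card = 8 := hO.2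
  have hsub : fixSet σ ⊆ fixSet κ := fun a ha => mem_fixSet.2 (hfix a (mem_fixSet.1 ha))
  have h28 : (fixSet κ \ fixSet σ).card = 2 := by rw [Finset.card_sdiff_of_subset hsub, h8, h6]
  obtain ⟨x, hx⟩ := Finset.card_pos.1 (by omega : 0 < (fixSet κ \ fixSet σ).card)
  have hmove : ∀ y ∈ fixSet κ \ fixSet σ, σ y ∈ fixSet κ \ fixSet σ ∧ σ y ≠ y := by
    intro y hy
    rw [Finset.mem_sdiff, mem_fixSet, mem_fixSet] at hy
    refine ⟨Finset.mem_sdiff.2 ⟨mem_fixSet.2 ?_, fun h => hy.2 ?_⟩, hy.2⟩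
    · rw [← Equiv.Perm.mul_apply, ← hc.eq, Equiv.Perm.mul_apply, hy.1]
    · exact σ.injective (mem_fixSet.1 h)
  obtain ⟨hy, hyx⟩ := hmove x hx
  obtain ⟨hz, hzy⟩ := hmove _ hy
  have hzx : σ (σ x) ≠ x := fun e => hyx (by
    have h1 : (σ ^ 3) x = x := by rw [← h3, pow_orderOf_eq_one]; rfl
    rw [pow_succ', pow_two, Equiv.Perm.mul_apply, Equiv.Perm.mul_apply, e] at h1
    exact h1)
  have : ({x, σ x, σ (σ x)} : Finset GolayPt).card ≤ 2 := by
    rw [← h28]
    exact Finset.card_le_card (by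
      intro q hq
      simp only [Finset.mem_insert, Finset.mem_singleton] at hq
      rcases hq with rfl | rfl | rfl
      exacts [hx, hy, hz])
  rw [Finset.card_eq_three.2 ⟨x, σ x, σ (σ x), Ne.symm hyx, Ne.symm hzx, Ne.symm hzy, rfl⟩] at this
  omega

/-- The pairs `i < j` of positions. -/
def pairList : List (ℕ × ℕ) := (List.range 24).flatMap fun j => (List.range j).map fun i => (i, j)

lemma pair_check : ((pairList.map fun q => pairS q.1 q.2).Nodup) ∧
    ((List.range 24).all fun i => (List.range 24).all fun j => pairS i j == pairS j i) = true := by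
  decide +kernel

theorem pairS_comm {i j : ℕ} (hi : i < 24) (hj : j < 24) : pairS i j = pairS j i := by
  have h := pair_check.2
  simp only [List.all_eq_true, List.mem_range, beq_iff_eq] at h
  exact h i hi j hj

theorem mem_pairList {i j : ℕ} (hij : i < j) (hj : j < 24) : (i, j) ∈ pairList :=
  List.mem_flatMap.2 ⟨j, List.mem_range.2 hj, List.mem_map.2 ⟨i, List.mem_range.2 hij, rfl⟩⟩

/-- The syndrome of a pair of points. -/
def pairP (a b : GolayPt) : ℕ := pairS (idx a) (idx b)

theorem pairP_comm (a b : GolayPt) : pairP a b = pairP b a := pairS_comm (idx_lt a) (idx_lt b)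

/-- A pair is determined by its syndrome. -/
theorem pairP_inj {a b a' b' : GolayPt} (hab : a ≠ b) (hab' : a' ≠ b') (e : pairP a b = pairP a' b') :
    (a' = a ∧ b' = b) ∨ (a' = b ∧ b' = a) := by
  have key : ∀ {a b a' b' : GolayPt}, idx a < idx b → idx a' < idx b' → pairP a b = pairP a' b' →
      a' = a ∧ b' = b := by
    intro a b a' b' h h' e
    have := List.inj_on_of_nodup_map pair_check.1 (mem_pairList h (idx_lt b)) (mem_pairList h' (idx_lt b')) e
    simp only [Prod.mk.injEq] at this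
    exact ⟨(idx_injective this.1).symm, (idx_injective this.2).symm⟩
  rcases lt_or_gt_of_ne (idx_injective.ne hab) with h | h <;>
    rcases lt_or_gt_of_ne (idx_injective.ne hab') with h' | h'
  · exact Or.inl (key h h' e)
  · exact Or.inr (key h h' (e.trans (pairP_comm _ _))).symm
  · exact Or.inr (key h h' ((pairP_comm _ _).trans e))
  · exact Or.inl (key h h' (((pairP_comm _ _).trans e).trans (pairP_comm _ _))).symm

theorem isDuad_pairP {a b : GolayPt} (hab : a ≠ b) : isDuad (pairP a b) = true := by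
  rcases lt_or_gt_of_ne (idx_injective.ne hab) with h | h
  · exact isDuad_iff.2 ⟨_, _, h, idx_lt b, rfl⟩
  · exact isDuad_iff.2 ⟨_, _, h, idx_lt a, pairP_comm b a⟩

theorem exists_pairP {s : ℕ} (h : isDuad s = true) : ∃ a b : GolayPt, a ≠ b ∧ pairP a b = s := by
  obtain ⟨i, j, hij, hj, rfl⟩ := isDuad_iff.1 h
  refine ⟨pt i, pt j, fun e => hij.ne ((pt_inj (hij.trans hj) hj).1 e), ?_⟩
  rw [pairP, idx_pt i (hij.trans hj), idx_pt j hj]

end Cfsg.Agent.H48.J4U
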