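import Cfsg.Agent.H48.J4U.IsT
import Cfsg.Agent.H48.J4U.Perm

/-!
In a model `V : K` of the normaliser of an elementary abelian subgroup, the involution attached to an element of
order three centralising a non-central involution of `V` lies in `V`.
-/

set_option autoImplicit false

namespace Cfsg.Agent.H48.J4U

open Subgroup Cfsg Cfsg.Agent.Golay H38.JFour

universe u

variable {G : Type u} [Group G]

/-- The facts on a model of `N(V)` used here. -/
structure Mdl (z : G) (V : Subgroup G) (F : ℕ → G) (φ : ↥Cfsg.M24 →* G) : Prop where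
  sq : ∀ v ∈ V, v * v = 1
  φ_norm : ∀ σ, φ σ ∈ normalizer (V : Set G)
  φ_trivial : ∀ σ, φ σ ∈ V → σ = 1
  decomp : ∀ n ∈ normalizer (V : Set G), ∃ v ∈ V, ∃ σ, n = v * φ σ
  F_mem : ∀ s, F s ∈ V
  conj_pair : ∀ (σ : ↥Cfsg.M24) (a b : GolayPt),
    φ σ * F (pairP a b) * (φ σ)⁻¹ =
      F (pairP ((σ : Equiv.Perm GolayPt) a) ((σ : Equiv.Perm GolayPt) b))
  pair_inj : ∀ s s' : ℕ, isDuad s = true → isDuad s' = true → F s = F s' → s = s'
  exists_pair : ∀ v ∈ V, v ≠ 1 → ¬ IsConj z v → ∃ a b : GolayPt, a ≠ b ∧ F (pairP a b) = v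

namespace Mdl

variable {z : G} {V : Subgroup G} {F : ℕ → G} {φ : ↥Cfsg.M24 →* G} (h : Mdl z V F φ)
include h

theorem comm {a b : G} (ha : a ∈ V) (hb : b ∈ V) : a * b = b * a := by
  have h1 := h.sq _ (mul_mem ha hb)
  calc a * b = a * (a * b * (a * b)) * b := by rw [h1, mul_one]
    _ = (a * a) * (b * a) * (b * b) := by group
    _ = b * a := by rw [h.sq a ha, h.sq b hb, one_mul, mul_one]

theorem φ_conj_mem (σ : ↥Cfsg.M24) {v : G} (hv : v ∈ V) : φ σ * v * (φ σ)⁻¹ ∈ V :=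
  (mem_normalizer_iff.1 (h.φ_norm σ) v).1 hv

theorem σ_unique {v v' : G} (hv : v ∈ V) (hv' : v' ∈ V) {σ σ' : ↥Cfsg.M24}
    (e : v * φ σ = v' * φ σ') : σ = σ' := by
  have e' : φ (σ * σ'⁻¹) = v⁻¹ * v' := by
    rw [map_mul, map_inv, show φ σ = v⁻¹ * (v * φ σ) by group, e]; group
  exact mul_inv_eq_one.1 (h.φ_trivial _ (e' ▸ mul_mem (inv_mem hv) hv'))

theorem mul_decomp {v v' : G} (hv : v ∈ V) (hv' : v' ∈ V) (σ σ' : ↥Cfsg.M24) :
    ∃ w ∈ V, v * φ σ * (v' * φ σ') = w * φ (σ * σ') :=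
  ⟨v * (φ σ * v' * (φ σ)⁻¹), mul_mem hv (h.φ_conj_mem σ hv'), by rw [map_mul]; group⟩

/-- An element centralising the syndrome of a pair preserves the pair. -/
theorem pair_pres {v : G} (hv : v ∈ V) (σ : ↥Cfsg.M24) {a b : GolayPt} (hab : a ≠ b)
    (hc : Commute (v * φ σ) (F (pairP a b))) :
    ((σ : Equiv.Perm GolayPt) a = a ∧ (σ : Equiv.Perm GolayPt) b = b) ∨
      ((σ : Equiv.Perm GolayPt) a = b ∧ (σ : Equiv.Perm GolayPt) b = a) := by
  have hne : (σ : Equiv.Perm GolayPt) a ≠ (σ : Equiv.Perm GolayPt) b :=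
    (σ : Equiv.Perm GolayPt).injective.ne hab
  have e : v * (φ σ * F (pairP a b) * (φ σ)⁻¹) * v⁻¹ = F (pairP a b) := by
    calc v * (φ σ * F (pairP a b) * (φ σ)⁻¹) * v⁻¹ = v * φ σ * F (pairP a b) * (v * φ σ)⁻¹ := by group
      _ = F (pairP a b) := by rw [hc.eq, mul_inv_cancel_right]
  rw [h.comm hv (h.φ_conj_mem σ (h.F_mem _)), mul_inv_cancel_right, h.conj_pair] at e
  exact pairP_inj hab hne (h.pair_inj _ _ (isDuad_pairP hne) (isDuad_pairP hab) e).symm

theorem fix_pair (σ : ↥Cfsg.M24) {a b : GolayPt} (ha : (σ : Equiv.Perm GolayPt) a = a)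
    (hb : (σ : Equiv.Perm GolayPt) b = b) {v : G} (hv : v ∈ V) :
    Commute (F (pairP a b)) (v * φ σ) := by
  have e := h.conj_pair σ a b
  rw [ha, hb, mul_inv_eq_iff_eq_mul] at e
  calc F (pairP a b) * (v * φ σ) = (F (pairP a b) * v) * φ σ := by group
    _ = (v * F (pairP a b)) * φ σ := by rw [h.comm (h.F_mem _) hv]
    _ = v * (φ σ * F (pairP a b)) := by rw [e]; group
    _ = v * φ σ * F (pairP a b) := by group

/-- The involution attached to `d` lies in `V`. -/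
theorem isT_mem {d t u : G} (hd : orderOf d = 3) (hT : IsT d t) (huV : u ∈ V) (hu1 : u ≠ 1)
    (huz : ¬ IsConj z u) (hdu : Commute d u)
    (hCu : centralizer ({u} : Set G) ≤ normalizer (V : Set G)) : t ∈ V := by
  have hCu' : ∀ x : G, Commute x u → x ∈ normalizer (V : Set G) := fun x hx => hCu
    (mem_centralizer_iff.2 fun y hy => by rw [Set.mem_singleton_iff.1 hy]; exact hx.symm.eq)
  have htu : Commute t u := (hT.2 u hdu.symm).symm
  obtain ⟨v, hv, σ, rfl⟩ := h.decomp d (hCu' d hdu)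
  obtain ⟨w, hw, κ, rfl⟩ := h.decomp t (hCu' t htu)
  have hd3 : (v * φ σ) * (v * φ σ) * (v * φ σ) = 1 := by
    rw [← pow_one (v * φ σ), ← pow_add, ← pow_add]
    rw [show 1 + 1 + 1 = 3 from rfl, ← hd]
    exact pow_orderOf_eq_one _
  have hσne : σ ≠ 1 := by
    rintro rfl
    rw [map_one, mul_one] at hd3 hd
    rw [h.sq v hv, one_mul] at hd3
    rw [hd3, orderOf_one] at hd
    omega
  have hσ3 : orderOf (σ : Equiv.Perm GolayPt) = 3 := by
    have : Fact (Nat.Prime 3) := ⟨Nat.prime_three⟩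
    rw [Subgroup.orderOf_coe]
    refine orderOf_eq_prime ?_ hσne
    obtain ⟨v1, hv1, e1⟩ := h.mul_decomp hv hv σ σ
    obtain ⟨v2, hv2, e2⟩ := h.mul_decomp hv1 hv (σ * σ) σ
    rw [e1, e2] at hd3
    rw [pow_succ, pow_two]
    exact h.σ_unique hv2 (one_mem V) (hd3.trans (by rw [map_one, one_mul]))
  obtain ⟨a, b, hab, rfl⟩ := h.exists_pair u huV hu1 huz
  have hpa : (σ : Equiv.Perm GolayPt) a = a := by
    rcases h.pair_pres hv σ hab hdu with e | e
    · exact e.1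
    · exfalso
      have h3 : ((σ : Equiv.Perm GolayPt) ^ 3) a = a := by rw [← hσ3, pow_orderOf_eq_one]; rfl
      rw [pow_succ', pow_two, Equiv.Perm.mul_apply, Equiv.Perm.mul_apply, e.1, e.2, e.1] at h3
      exact hab h3.symm
  suffices hκ : κ = 1 by rw [hκ, map_one, mul_one]; exact hw
  have hκ2 : κ * κ = 1 := by
    obtain ⟨w1, hw1, e1⟩ := h.mul_decomp hw hw κ κ
    have := hT.sq
    rw [e1] at this
    exact h.σ_unique hw1 (one_mem V) (this.trans (by rw [map_one, one_mul]))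
  have hc : Commute σ κ := by
    obtain ⟨w1, hw1, e1⟩ := h.mul_decomp hv hw σ κ
    obtain ⟨w2, hw2, e2⟩ := h.mul_decomp hw hv κ σ
    have := hT.commute.eq
    rw [e1, e2] at this
    exact h.σ_unique hw1 hw2 this
  refine Subtype.ext (perm_eq_one σ.2 κ.2 hσ3 ?_ ?_ hpa fun a' b' hne ha hb => ?_)
  · rw [← Subgroup.coe_mul, hκ2]; rfl
  · exact congrArg Subtype.val hc.eq
  · exact h.pair_pres hw κ hne (hT.2 _ (h.fix_pair σ ha hb hv)).symm

end Mdl

end Cfsg.Agent.H48.J4U
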