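import Cfsg.Agent.H48.J4U.Equiv

/-!
Which elements of `V` centralise the involution of a moved trio.
-/

set_option autoImplicit false

namespace Cfsg.Agent.H48.J4U

open Subgroup Cfsg Cfsg.Agent.Golay H38.JFour

universe u

variable {G : Type u} [Group G] {z : G} {V : Subgroup G} {F : ℕ → G} {φ : ↥Cfsg.M24 →* G} {t : G}

theorem commute_F_iff (E : Env z V F φ) (h : IsTrioInv z V F φ t) {s : ℕ} (hs : ev s = true) :
    Commute t (F s) ↔ s = 0 ∨ s ∈ zList := by
  refine ⟨h.centV s hs, ?_⟩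
  rintro (rfl | hm)
  · have h0 : F (0 ^^^ 0) = F 0 * F 0 := E.F_xor 0 0
    rw [Nat.xor_self] at h0
    rw [left_eq_mul.1 h0]
    exact Commute.one_right t
  · exact h.sext s hm

/-- The elements of `V` centralising the involution of the moved trio are the images of the seven sextets. -/
theorem tAt_commute_F_iff (E : Env z V F φ) (h : IsTrioInv z V F φ t) {T : ℕ} (hT : inM24 T = true)
    {s : ℕ} (hs : ev s = true) :
    Commute (tAt φ t (tPerm T hT)) (F (lin (linGens T) s)) ↔ s = 0 ∨ s ∈ zList := by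
  rw [← commute_F_iff E h hs, ← (E.conj_lin T hT s hs).2]
  refine ⟨fun hc => ?_, fun hc => tAt_commute hc _⟩
  have h1 := tAt_commute (φ := φ) hc (tPerm T hT)⁻¹
  rw [tAt, tAt, map_inv] at h1
  rwa [show (φ (tPerm T hT))⁻¹ * (φ (tPerm T hT) * t * (φ (tPerm T hT))⁻¹) * (φ (tPerm T hT))⁻¹⁻¹ = t by group,
    show (φ (tPerm T hT))⁻¹ * (φ (tPerm T hT) * F s * (φ (tPerm T hT))⁻¹) * (φ (tPerm T hT))⁻¹⁻¹ = F s by group]
    at h1

/-- The involution lies outside `V`. -/
theorem trioInv_notMem (E : Env z V F φ) (h : IsTrioInv z V F φ t) : t ∉ V := by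
  intro ht
  have hd : isDuad (pairS 1 0) = true := by decide +kernel
  rcases (commute_F_iff E h (ev_of_isDuad hd).1).1 (E.toMdl.comm ht (E.F_mem _)) with e | e
  · exact (ev_of_isDuad hd).2 e
  · revert e
    decide +kernel

end Cfsg.Agent.H48.J4U
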